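import Cfsg.Agent.TitsThree.CharCN

/-!
# Buildings of type `C₃` with equal odd parameters

`exists_equiv` : a finite simple group acting strongly transitively on a thick building of type `C₃`, all parameters
equal to `q` odd, is `PSp₆(q)` or `Ω₇(q)`.
-/

set_option autoImplicit false

namespace Cfsg.Agent.UGT.U2.Rec.CThree

open Cfsg
open Cfsg.Agent.Tits.Core Cfsg.Agent.Tits.Core.Bldg Cfsg.Agent.Tits Cfsg.Agent.Tits.Exchange
open Cfsg.Agent.Tits.MouTrans Cfsg.Agent.Tits.MouOut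
open Cfsg.Agent.Tits.MouDefs (rt Aut mem_Aut Chart Ext Comb)
open Cfsg.Agent.TitsThree.NormalTrans Cfsg.Agent.TitsThree.Top
open Cfsg.Agent.LieRecognition
open Cfsg.Agent.LieRecognition.BNCox (cA cC cD cE cF)
open Cfsg.Agent.TitsThree Cfsg.Agent.TitsThree.B2Pkg Cfsg.Agent.TitsThree.Pack Cfsg.Agent.TitsThree.StdData
  Cfsg.Agent.TitsThree.CnModel Cfsg.Agent.TitsThree.GCNOfSys Cfsg.Agent.TitsThree.EndII
  Cfsg.Agent.TitsThree.KInstSp Cfsg.Agent.TitsThree.KSideO Cfsg.Agent.TitsThree.CharCN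
open Cfsg.Agent.TitsThree.SolvedCN (ex_sp ex_o1 ex_o2 ex_u0 ex_u1)
open MulAction

section Gg

variable {I : Type*} {M : CoxeterMatrix I} {W : Type*} [Group W] {cs : CoxeterSystem M W} {C : Type*}

/-- A simple group acting strongly transitively is the group generated by the root groups. -/
theorem equiv_Gg [Finite I] [Finite W] [Finite C] [Nonempty I] {Δ : Bldg cs C} (ht : Δ.Thick) {σ : W → C}
    (H : Sys Δ (Aut Δ) σ (UU Δ σ)) {p : ℕ} [Fact p.Prime]
    (hU : ∀ i, IsPGroup p (UU Δ σ (rt cs 1 i)))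
    (hH : Group.IsSolvable ↥(stabilizer (Aut Δ) (σ 1) ⊓ stabilizer (Aut Δ) (σ (w0 cs))))
    (hcop : (Nat.card ↥(stabilizer (Aut Δ) (σ 1) ⊓ stabilizer (Aut Δ) (σ (w0 cs)) ⊓
      Gg cs (UU Δ σ))).Coprime p)
    {G : Type*} [Group G] [IsSimpleGroup G] [MulAction G C] (hG : Δ.StrongAct G) :
    Nonempty (G ≃* ↥(Gg cs (UU Δ σ))) := by
  have e0 := H.Gg_eq
  have : Nonempty C := ⟨σ 1⟩
  have : Finite (Aut Δ) := by
    refine Finite.of_injective (fun a : Aut Δ => (MulAction.toPerm a : Equiv.Perm C))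
      fun a b hab => ?_
    have h1 : b⁻¹ * a = 1 := H.faith _ fun x => by
      rw [mul_smul, inv_smul_eq_iff]
      exact congrFun (congrArg DFunLike.coe hab) x
    exact (inv_mul_eq_one.1 h1).symm
  have hinj := toAut_injective hG
  let e : G ≃* (toAut hG).range := MonoidHom.ofInjective hinj
  have : IsSimpleGroup (toAut hG).range := e.symm.isSimpleGroup
  have hns : ¬ Group.IsSolvable (toAut hG).range := by
    intro hsol
    have h1 := (IsSimpleGroup.comm_iff_isSolvable (G := (toAut hG).range)).2 hsol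
    refine not_comm ht hG fun a b => e.injective ?_
    rw [map_mul, map_mul]
    exact h1 _ _
  have hcd : Δ.Opp (σ 1) (σ (w0 cs)) := H.opp
  have hmain := End.main (A := Aut Δ) (C := C) (c := σ 1) (d := σ (w0 cs)) (O := {x | Δ.Opp (σ 1) x})
    (U := Up cs (UU Δ σ)) (p := p) ?_ hcd (fun u hu => H.Up_fix hu) (fun a ha u hu => H.Up_normal ha hu)
    (EndHyp.Up_isPGroup H hU) (fun x hx => H.Up_trans _ x hx) (fun u hu h => H.Up_free hu h) (fun x => ?_) hH ?_
    (toAut hG).range hns ?_ ?_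
  · exact ⟨e.trans ((MulEquiv.subgroupCongr hmain.1).trans (MulEquiv.subgroupCongr e0.symm))⟩
  · intro a ha x hx
    change Δ.δ (σ 1) (a • x) = _
    have h1 : Δ.δ (a • σ 1) (a • x) = Δ.δ (σ 1) x := δ_smul a (σ 1) x
    rw [mem_stabilizer_iff.1 ha] at h1
    rw [h1]
    exact hx
  · rw [← e0]
    exact H.Gtrans x
  · rw [← e0]
    exact hcop
  · intro x
    obtain ⟨g, hg, -⟩ := hG.trans (σ 1) (σ 1) x x (by rw [Δ.δ_self, Δ.δ_self])
    exact ⟨toAut hG g, ⟨g, rfl⟩, by rw [toAut_smul, hg]⟩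
  · intro x hx
    obtain ⟨g, hg1, hg2⟩ := hG.trans (σ 1) (σ (w0 cs)) (σ 1) x (hcd.trans (Eq.symm hx))
    exact ⟨toAut hG g, ⟨g, rfl⟩, by rw [toAut_smul, hg1], by rw [toAut_smul, hg2]⟩

end Gg

/-! ### The parameters of the five data -/

section Card

variable {F : Type} [Field F] [Finite F]

theorem card_T_o2 {a b : F} (hab : ∀ z₁ z₂ : F, z₁ ^ 2 + a * z₁ * z₂ + b * z₂ ^ 2 = 0 → z₁ = 0 ∧ z₂ = 0)
    (h : Nat.card (stdO2 F a b hab).T = Nat.card F) : False := by
  have e : (stdO2 F a b hab).T ≃ F × F :=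
    { toFun := fun p => p.w
      invFun := fun w => ⟨w, -nf a b w, rfl⟩
      left_inv := fun p => by
        have h1 : p.c = -nf a b p.w := p.ok
        ext1
        · rfl
        · exact h1.symm
      right_inv := fun w => rfl }
  rw [Nat.card_congr e, Nat.card_prod] at h
  have h1 : 1 < Nat.card F := Finite.one_lt_card
  nlinarith

theorem card_T_u0 (h2 : (2 : F) ≠ 0) {σ : F ≃+* F} (hσ : ∀ x, σ (σ x) = x)
    (h : Nat.card (stdU0 F σ hσ).T = Nat.card F) : False := by
  have hinj : Function.Injective (fun p : (stdU0 F σ hσ).T => p.c) := by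
    intro p q hpq
    ext1
    · exact Subsingleton.elim _ _
    · exact hpq
  have hf : Finite (stdU0 F σ hσ).T := Finite.of_injective _ hinj
  have hb : Function.Bijective (fun p : (stdU0 F σ hσ).T => p.c) :=
    (Nat.bijective_iff_injective_and_card _).mpr ⟨hinj, h⟩
  obtain ⟨p, hp⟩ := hb.2 1
  have h1 : p.c + σ p.c = 0 := p.ok
  have h3 : p.c = 1 := hp
  rw [h3, map_one] at h1
  apply h2
  rw [← h1]
  norm_num

theorem card_T_u1 (h2 : (2 : F) ≠ 0) {σ : F ≃+* F} (hσ : ∀ x, σ (σ x) = x) (hne : ∃ x, σ x ≠ x)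
    (h : Nat.card (stdU1 F σ hσ).T = Nat.card F) : False := by
  have h0 : ∀ w : F, (-(w * σ w) / 2) + σ (-(w * σ w) / 2) = -(w * σ w) := by
    intro w
    rw [map_div₀, map_neg, map_mul, hσ, map_ofNat]
    field_simp
    ring
  have hinj : Function.Injective (fun w : F => (⟨w, -(w * σ w) / 2, h0 w⟩ : (stdU1 F σ hσ).T)) := by
    intro w w' hw
    exact congrArg (fun p : (stdU1 F σ hσ).T => p.w) hw
  have hfin : Finite (stdU1 F σ hσ).T := by
    refine Finite.of_injective (fun p : (stdU1 F σ hσ).T => (p.w, p.c)) ?_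
    intro p q hpq
    have h1 := congrArg Prod.fst hpq
    have h3 := congrArg Prod.snd hpq
    ext1
    · exact h1
    · exact h3
  have hb := (Nat.bijective_iff_injective_and_card _).mpr ⟨hinj, h.symm⟩
  obtain ⟨x, hx⟩ := hne
  have h3 : (x - σ x) + σ (x - σ x) = -((0 : F) * σ 0) := by
    rw [map_sub, hσ]; simp
  obtain ⟨w, hw⟩ := hb.2 (⟨0, x - σ x, h3⟩ : (stdU1 F σ hσ).T)
  have h4 : w = 0 := congrArg (fun p : (stdU1 F σ hσ).T => p.w) hw
  have h5 : -(w * σ w) / 2 = x - σ x := congrArg (fun p : (stdU1 F σ hσ).T => p.c) hw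
  rw [h4] at h5
  apply hx
  have h6 : x - σ x = 0 := by rw [← h5]; simp
  exact (sub_eq_zero.mp h6).symm

end Card

theorem two_ne {F : Type*} [Field F] [Finite F] (h : Odd (Nat.card F)) : (2 : F) ≠ 0 := by
  intro h2
  have := Fintype.ofFinite F
  have h1 : ringChar F ≠ 2 := by
    intro h3
    have h4 := FiniteField.even_card_of_char_two h3
    rw [Nat.card_eq_fintype_card, Nat.odd_iff] at h
    omega
  apply h1
  have := ringChar.charP F
  have : ringChar F ∣ 2 := (CharP.cast_eq_zero_iff F (ringChar F) 2).mp (by exact_mod_cast h2)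
  rcases (Nat.dvd_prime Nat.prime_two).mp this with h4 | h4
  · exfalso
    exact CharP.char_ne_one F (ringChar F) h4
  · exact h4

section Main

variable {W : Type*} [Group W] [Finite W] {C : Type*} [Finite C] [Nonempty C] {cs : CoxeterSystem (cC 3) W}
  {Δ : Bldg cs C}

omit [Nonempty C] in
theorem equiv_K {σ : W → C} (hth : Δ.Thick) (H : Sys Δ (Aut Δ) σ (UU Δ σ)) {F : Type} [Field F]
    [Finite F] {V : Type} [AddCommGroup V] [Module F V] [Finite V] {D : PQDatum F V} (good : Good D)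
    (ex : ∃ p : D.T, p.c ≠ 0) (h : Out (k := 1) Δ σ D) {K : Type} [Group K] [IsSimpleGroup K]
    (k : KCN K D 2) {G : Type*} [Group G] [IsSimpleGroup G] [MulAction G C] (hG : Δ.StrongAct G) : Nonempty (G ≃* K) := by
  obtain ⟨P, -, -, r, rT, sl, injT⟩ := id h
  obtain ⟨p, hp⟩ := CharP.exists F
  have : Fact p.Prime := ⟨CharP.char_is_prime F p⟩
  have : Finite (Aut Δ) := by
    refine Finite.of_injective (fun a : Aut Δ => (MulAction.toPerm a : Equiv.Perm C)) fun a b hab => ?_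
    have h1 : b⁻¹ * a = 1 := H.faith _ fun x => by
      rw [mul_smul, inv_smul_eq_iff]
      exact congrFun (congrArg DFunLike.coe hab) x
    exact (inv_mul_eq_one.1 h1).symm
  have R : EndCN.RangesCN P.toCN := ⟨r, rT, sl, injT⟩
  have hGg := H.Gg_strongAct
  obtain ⟨e⟩ := equiv_Gg hth H (p := p) (EndCN.isPGroup R) (EndCN.solvable H (by omega) R good ex)
    (EndCN.coprime H (by omega) R good ex) hG
  obtain ⟨f⟩ := AssembleCN.nonempty_mulEquiv' hth hGg (SolvedCN.conn_cC 3) (by omega) ex P k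
  exact ⟨e.trans f⟩

omit [Finite W] [Nonempty C] in
/-- the parameters of the last node and of the others -/
theorem card_of_out {σ : W → C} (H : Sys Δ (Aut Δ) σ (UU Δ σ)) {F : Type} [Field F]
    [Finite F] {V : Type} [AddCommGroup V] [Module F V] {D : PQDatum F V}
    (h : Out (k := 1) Δ σ D) {q : ℕ} (hq : ∀ i, Δ.Param i q) : Nat.card F = q ∧ Nat.card D.T = q := by
  obtain ⟨P, -, -, r, rT, sl, injT⟩ := id h
  have hU : ∀ i, Nat.card (UU Δ σ (rt cs 1 i)) = q := by
    intro i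
    have h1 := EndHyp.param H i (σ 1)
    have h2 := hq i (σ 1)
    omega
  constructor
  · rw [← hU (Fin.castSucc 0)]
    have h1 := (r 0).1
    have h2 : Function.Injective fun t => ((P.xp 0 t : ↥(Gg cs (UU Δ σ))) : Aut Δ) :=
      Subtype.val_injective.comp (sl 0).injp
    rw [Nat.card_congr (Equiv.ofInjective _ h2)]
    exact Nat.card_congr (Equiv.setCongr h1)
  · rw [← hU (Fin.last 2)]
    have h1 := rT.1
    have h2 : Function.Injective fun t => ((P.b2.z₂ t : ↥(Gg cs (UU Δ σ))) : Aut Δ) :=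
      Subtype.val_injective.comp injT
    rw [Nat.card_congr (Equiv.ofInjective _ h2)]
    exact Nat.card_congr (Equiv.setCongr h1)

/-- **Buildings of type `C₃` with equal odd parameters.** -/
theorem exists_equiv (hth : Δ.Thick) {q : ℕ} (hodd : Odd q) (hq : ∀ i, Δ.Param i q) {G : Type*} [Group G]
    [IsSimpleGroup G] [MulAction G C] (hG : Δ.StrongAct G) :
    ∃ (F : Type) (_ : Field F) (_ : Fintype F), Fintype.card F = q ∧
      (Nonempty (G ≃* PSp 3 F) ∨ Nonempty (G ≃* POmega F (quadFormOdd 3 F))) := by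
  obtain ⟨x⟩ := (inferInstance : Nonempty C)
  obtain ⟨y, hxy⟩ : ∃ y, Δ.Opp x y := Δ.exists_δ x (w0 cs)
  obtain ⟨σ, hσ, -⟩ := MouDefs.exists_chart hxy (1 : W)
  have H := MouAll.sys (MouAll.lab_C 3) (CombInst.diag_C (by omega)) hth hσ
  obtain ⟨F, i1, i2, h⟩ := GCNMain.exists_out hth hσ
  have : Fintype F := Fintype.ofFinite F
  rcases h with h | ⟨h2, h⟩ | ⟨a, b, hab, h⟩ | ⟨τ, hτ, hne, h⟩ | ⟨τ, hτ, hne, h⟩
  · obtain ⟨h1, h3⟩ := card_of_out H h hq
    refine ⟨F, i1, this, by rw [← Nat.card_eq_fintype_card, h1], Or.inl ?_⟩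
    have : IsSimpleGroup (PSp 3 F) := Cfsg.Agent.S0270.result 3 (by omega) fun h2 => absurd h2 (by omega)
    exact equiv_K hth H good_sp (ex_sp F) h (kcnSp F 1) hG
  · obtain ⟨h1, h3⟩ := card_of_out H h hq
    refine ⟨F, i1, this, by rw [← Nat.card_eq_fintype_card, h1], Or.inr ?_⟩
    obtain ⟨k⟩ := exists_KCN_odd F h2 1
    have : IsSimpleGroup (POmega F (quadFormOdd 3 F)) :=
      Cfsg.Agent.S0295.result (odd_card_of_two_ne h2) 3 (by omega)
    exact equiv_K hth H good_o1 (ex_o1 F) h k hG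
  · obtain ⟨h1, h3⟩ := card_of_out H h hq
    exact (card_T_o2 hab (h3.trans h1.symm)).elim
  · obtain ⟨h1, h3⟩ := card_of_out H h hq
    exact (card_T_u0 (two_ne (h1 ▸ hodd)) hτ (h3.trans h1.symm)).elim
  · obtain ⟨h1, h3⟩ := card_of_out H h hq
    exact (card_T_u1 (two_ne (h1 ▸ hodd)) hτ hne (h3.trans h1.symm)).elim

end Main

end Cfsg.Agent.UGT.U2.Rec.CThree
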