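import Mathlib
import Cfsg.Prelude.Def_Classical

/-!
# `PΩ(F)` depends only on the isomorphism type of `F`
-/

set_option autoImplicit false

namespace Cfsg.Agent.UGT.U2.Rec.Congr

open Subgroup Cfsg Matrix

theorem quot_center {A B : Type*} [Group A] [Group B] (f : A ≃* B) :
    Nonempty (A ⧸ center A ≃* B ⧸ center B) := by
  refine ⟨QuotientGroup.congr _ _ f ?_⟩
  ext x
  constructor
  · rintro ⟨y, hy, rfl⟩
    rw [mem_center_iff]
    intro g
    obtain ⟨k, rfl⟩ := f.surjective g
    change f k * f y = f y * f k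
    rw [← map_mul, ← map_mul, mem_center_iff.mp hy]
  · intro h
    refine ⟨f.symm x, mem_center_iff.mpr fun g => ?_, f.apply_symm_apply x⟩
    apply f.injective
    rw [map_mul, map_mul, MulEquiv.apply_symm_apply]
    exact mem_center_iff.mp h _

theorem commutator_equiv {A B : Type*} [Group A] [Group B] (f : A ≃* B) :
    Nonempty (↥(commutator A) ≃* ↥(commutator B)) := by
  have h : (commutator A).map f.toMonoidHom = commutator B := by
    rw [commutator_def, commutator_def, Subgroup.map_commutator, Subgroup.map_top_of_surjective _ f.surjective]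
  exact ⟨(f.subgroupMap (commutator A)).trans (MulEquiv.subgroupCongr h)⟩

variable {F F' : Type*} [Field F] [Field F'] (σ : F ≃+* F') {ι : Type} [Fintype ι] [DecidableEq ι]

/-- the equivalence of the linear groups -/
def glEquiv : GeneralLinearGroup ι F ≃* GeneralLinearGroup ι F' :=
  Units.mapEquiv (σ.mapMatrix (m := ι)).toMulEquiv

theorem glEquiv_val (g : GeneralLinearGroup ι F) : (glEquiv σ g).1 = g.1.map σ := rfl

omit [DecidableEq ι] in
theorem mulVec_map (A : Matrix ι ι F) (v : ι → F) : (A.map σ) *ᵥ (σ ∘ v) = σ ∘ (A *ᵥ v) := by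
  ext i
  simp [Matrix.mulVec, dotProduct, map_sum]

theorem map_isometryGroup {Q : (ι → F) → F} {Q' : (ι → F') → F'} (h : ∀ v, Q' (σ ∘ v) = σ (Q v)) :
    (isometryGroup F Q).map (glEquiv (ι := ι) σ).toMonoidHom = isometryGroup F' Q' := by
  ext g
  rw [mem_map_equiv]
  obtain ⟨k, rfl⟩ := (glEquiv (ι := ι) σ).surjective g
  rw [MulEquiv.symm_apply_apply]
  have hs : ∀ u : ι → F', ∃ v : ι → F, u = σ ∘ v := fun u => ⟨σ.symm ∘ u, by ext i; simp⟩
  change (∀ u v : ι → F, Q (k.1 *ᵥ u) = Q u) ↔ (∀ u v : ι → F', Q' ((glEquiv σ k).1 *ᵥ u) = Q' u)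
  constructor
  · intro hk u _
    obtain ⟨v, rfl⟩ := hs u
    rw [glEquiv_val, mulVec_map, h, h, hk v v]
  · intro hk u _
    have h1 := hk (σ ∘ u) (σ ∘ u)
    rw [glEquiv_val, mulVec_map, h, h] at h1
    exact σ.injective h1

theorem nonempty_POmega {Q : (ι → F) → F} {Q' : (ι → F') → F'} (h : ∀ v, Q' (σ ∘ v) = σ (Q v)) :
    Nonempty (POmega F Q ≃* POmega F' Q') := by
  have e : ↥(isometryGroup F Q) ≃* ↥(isometryGroup F' Q') :=
    ((glEquiv (ι := ι) σ).subgroupMap (isometryGroup F Q)).trans (MulEquiv.subgroupCongr (map_isometryGroup σ h))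
  obtain ⟨f⟩ := commutator_equiv e
  exact quot_center f

theorem quadFormOdd_map {F F' : Type*} [Field F] [Field F'] (σ : F ≃+* F') (m : ℕ) (v : Unit ⊕ (Fin m ⊕ Fin m) → F) :
    quadFormOdd m F' (σ ∘ v) = σ (quadFormOdd m F v) := by
  simp [quadFormOdd, map_add, map_sum, map_mul, map_pow]

/-- **Change of the field.** -/
theorem nonempty_POmegaOdd {F F' : Type*} [Field F] [Field F'] (σ : F ≃+* F') (m : ℕ) : Nonempty (POmega F (quadFormOdd m F) ≃* POmega F' (quadFormOdd m F')) :=
  nonempty_POmega σ (quadFormOdd_map σ m)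

end Cfsg.Agent.UGT.U2.Rec.Congr
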