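import Mathlib
import Cfsg.Agent.OddHalf.NI.OmegaRows

/-!
# The centre of a perfect cover of `Ω₇(q)` has order at most two

`center_eq` : `N` perfect, `Z(N)` a 2-group, `N / Z(N) ≃ POmega F (quadFormOdd m F)`, `c ∈ Z(N)`, `c ≠ 1`: then
`Z(N) = {1, c}`.
-/

set_option autoImplicit false
set_option linter.unusedSectionVars false

namespace Cfsg.Agent.UGT.U2.Rec.CenterOm

open CoxeterSystem Cfsg.Agent.ChevalleyStructure.CoxeterGeom Cfsg.Agent.Tits.Roots Cfsg.Agent.Tits.Core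
  Cfsg.Agent.Tits.RootComb Cfsg.Agent.Nodes.Comb Cfsg.Agent.Nodes.Reps Cfsg.Agent.Nodes.BNOf
  Cfsg.Agent.Nodes.RGDLib Cfsg.Agent.Nodes.Chart
open QuadraticMap
open Matrix (SpecialLinearGroup)
open Cfsg.Agent.LieClassical Cfsg.Agent.LieClassical.OrthCore Cfsg.Agent.LieClassical.OrthTrans
open Cfsg.Agent.LieClassical.OrthSimple Cfsg.Agent.LieClassical.OrthFinite Cfsg.Agent.LieClassical.OrthForms
open Cfsg.Agent.TitsThree Cfsg.Agent.TitsThree.Siegel Cfsg.Agent.TitsThree.SiegelGen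
  Cfsg.Agent.TitsThree.WittFrame Cfsg.Agent.TitsThree.WittWeyl Cfsg.Agent.TitsThree.WBridge
  Cfsg.Agent.TitsThree.KSideO
open Cfsg.Agent.Nodes
open Cfsg.Agent.Nodes.WittRoot (Amb XG ZG PG PG_ne PG_self Mono XG_swap rg rg_eq)
open Cfsg.Agent.Nodes.WittRGD (Tor mem_Tor nn nn_mem)
open Cfsg.Agent.Nodes.TypeC Cfsg.Agent.Nodes.TypeCForm Cfsg.Agent.Nodes.KindBC
open Cfsg.Agent.OddHalf.LongSL.OrthPhi Cfsg.Agent.OddHalf.LongSL.Orth
open Cfsg.Agent.OddHalf.NI Cfsg.Agent.OddHalf.NI.OmegaSheet Cfsg.Agent.OddHalf.NI.OmegaNodes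
  Cfsg.Agent.OddHalf.NI.OmegaLast Cfsg.Agent.OddHalf.NI.OmegaTorus Cfsg.Agent.OddHalf.NI.OmegaRows

variable {F : Type} [Field F] [Finite F]

theorem node_e (m : ℕ) (i : Fin m) (x : ((nodeO (F := F) m i).K)ˣ) (hx : (nodeO (F := F) m i).e x = 1) :
    ((i : ℕ) + 1 < m → x = 1) ∧ (x = 1 ∨ x = -1) := by
  revert x
  by_cases h : (i : ℕ) + 1 < m
  · have e : nodeO (F := F) m i = inner h fun t => Phi_dgO m (fun e => by simp [Fin.ext_iff] at e) t := by
      unfold nodeO
      rw [dif_pos h]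
    rw [e]
    intro x hx
    have h1 : x = 1 := hx
    exact ⟨fun _ => h1, Or.inl h1⟩
  · have e : nodeO (F := F) m i = lastO m i h := by
      unfold nodeO
      rw [dif_neg h]
    rw [e]
    intro x hx
    refine ⟨fun h1 => absurd h1 h, ?_⟩
    have h1 : x ^ 2 = 1 := hx
    rw [pow_two, ← Units.val_inj, Units.val_mul, Units.val_one] at h1
    rcases mul_self_eq_one_iff.mp h1 with h2 | h2
    · exact Or.inl (Units.ext h2)
    · exact Or.inr (Units.ext h2)

theorem node_w (m : ℕ) (i : Fin m) (x : ((nodeO (F := F) m i).K)ˣ) : (nodeO (F := F) m i).w x = 1 := by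
  revert x
  by_cases h : (i : ℕ) + 1 < m
  · have e : nodeO (F := F) m i = inner h fun t => Phi_dgO m (fun e => by simp [Fin.ext_iff] at e) t := by
      unfold nodeO
      rw [dif_pos h]
    rw [e]
    intro x
    rfl
  · have e : nodeO (F := F) m i = lastO m i h := by
      unfold nodeO
      rw [dif_neg h]
    rw [e]
    intro x
    rfl

variable {m : ℕ} (hA : Amb (toFrame (wodd m F)) (E (oddForm m F)))

/-- a scalar element of the torus is trivial -/
theorem eps_eq_one (hm : 0 < m) {t : ∀ i, ((nodeO (F := F) m i).K)ˣ} {ε : Fˣ}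
    (h : ∀ v, ((theta (nodeO m) hA t : ↥(E (oddForm m F))) : (Unit ⊕ (Fin m ⊕ Fin m) → F) ≃ₗ[F] _) v = (ε : F) • v) :
    ε = 1 := by
  rw [coe_theta] at h
  obtain ⟨-, -, hw⟩ := scalO m hm _ _ ε h
  have h1 : (∏ i, (nodeO (F := F) m i).w (t i)) = ε := hw
  rw [← h1]
  exact Finset.prod_eq_one fun i _ => node_w m i _

/-- the kernel of the parametrisation of the torus -/
theorem theta_eq_one (hm : 0 < m) {t : ∀ i, ((nodeO (F := F) m i).K)ˣ} (h : theta (nodeO m) hA t = 1) :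
    t = 1 ∨ ∃ j : Fin m, (j : ℕ) + 1 = m ∧ t = Pi.mulSingle j (-1) := by
  have h0 : ∀ v, ((theta (nodeO m) hA t : ↥(E (oddForm m F))) : (Unit ⊕ (Fin m ⊕ Fin m) → F) ≃ₗ[F] _) v =
      ((1 : Fˣ) : F) • v := by
    intro v
    rw [h, Units.val_one, one_smul]
    rfl
  rw [coe_theta] at h0
  obtain ⟨-, hc, -⟩ := scalO m hm _ _ 1 h0
  have h3 := coords (x := fun i => (nodeO (F := F) m i).e (t i)) hc
  have h4 : ∀ i, (nodeO (F := F) m i).e (t i) = 1 := fun i => (h3 i).trans (one_pow _)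
  have h5 := fun i => node_e m i (t i) (h4 i)
  rcases (h5 ⟨m - 1, by omega⟩).2 with h6 | h6
  · left
    funext i
    by_cases hi : (i : ℕ) + 1 < m
    · exact (h5 i).1 hi
    · have : i = ⟨m - 1, by omega⟩ := Fin.ext (by have := i.2; simp only; omega)
      rw [this]
      exact h6
  · right
    refine ⟨⟨m - 1, by omega⟩, by simp only; omega, ?_⟩
    funext i
    by_cases hi : (i : ℕ) + 1 < m
    · rw [(h5 i).1 hi, Pi.mulSingle_eq_of_ne]
      intro h7
      rw [h7] at hi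
      simp only at hi
      omega
    · have : i = ⟨m - 1, by omega⟩ := Fin.ext (by have := i.2; simp only; omega)
      rw [this, h6, Pi.mulSingle_eq_same]

universe u

/-- **The centre of a perfect cover of `Ω_{2m+1}(q)`.** -/
theorem center_eq (F : Type) [Field F] [Fintype F] (m : ℕ) (ho : Odd (Fintype.card F)) (hm : 3 ≤ m) {N : Type u}
    [Group N] [Finite N] (hN : commutator N = ⊤) (hZ : IsPGroup 2 ↥(Subgroup.center N))
    (e : Nonempty (N ⧸ Subgroup.center N ≃* Cfsg.POmega F (Cfsg.quadFormOdd m F))) {c : N}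
    (hc : c ∈ Subgroup.center N) (hc1 : c ≠ 1) : ∀ z ∈ Subgroup.center N, z = 1 ∨ z = c := by
  obtain ⟨p, hp, hcp, hp2⟩ := exists_char ho
  have : Fact p.Prime := ⟨hp⟩
  obtain ⟨e⟩ := e
  rw [← coe_oddForm] at e
  have h2 : (2 : F) ≠ 0 := two_ne hp2
  have hG : Good (oddForm m F) := by
    apply good_of_finite (nondeg_oddForm m F h2)
    rw [Module.finrank_fintype_fun_eq_card, Fintype.card_sum, Fintype.card_sum, Fintype.card_fin,
      Fintype.card_unit]
    omega
  have hA := RGDOrth.amb (wodd m F) h2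
  obtain ⟨p0, hp0⟩ : ∃ p0 : (toFrame (wodd m F)).Adm, p0.c ≠ 0 := by
    refine ⟨(embOdd m F).ngt ⟨1, -1 ^ 2, rfl⟩, ?_⟩
    change (1 : F)⁻¹ * (-1 ^ 2) ≠ 0
    simp
  have hm0 : 0 < m := by omega
  have hpn : p ≠ 2 := fun h => by rw [h] at hp2; exact absurd hp2 (by decide)
  obtain ⟨S, hS⟩ : ∃ S, S = sheet (nodeO m) hA hp2 hm hp0 (scalO m hm0) trivial := ⟨_, rfl⟩
  have hfin : Finite ((Unit ⊕ (Fin m ⊕ Fin m) → F) ≃ₗ[F] (Unit ⊕ (Fin m ⊕ Fin m) → F)) :=
    Finite.of_injective (fun g : (Unit ⊕ (Fin m ⊕ Fin m) → F) ≃ₗ[F] (Unit ⊕ (Fin m ⊕ Fin m) → F) =>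
      (g : (Unit ⊕ (Fin m ⊕ Fin m) → F) → (Unit ⊕ (Fin m ⊕ Fin m) → F))) DFunLike.coe_injective
  have hE : commutator ↥(E (oddForm m F)) = ⊤ := by
    apply Subgroup.map_injective (E (oddForm m F)).subtype_injective
    rw [commutator_def, Subgroup.map_commutator, ← MonoidHom.range_eq_map, Subgroup.range_subtype]
    exact hG.E_perfect
  -- `E Q` is centreless
  have hcenE : ∀ g ∈ Subgroup.center ↥(E (oddForm m F)), g = 1 := by
    intro g hg
    have hkid : (MonoidHom.id ↥(E (oddForm m F))).ker ≤ Subgroup.center _ := by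
      intro x hx
      have : x = 1 := hx
      rw [this]; exact one_mem _
    have hk2 : IsPGroup 2 (MonoidHom.id ↥(E (oddForm m F))).ker := by
      rintro ⟨x, hx⟩
      refine ⟨0, Subtype.ext ?_⟩
      have : x = 1 := hx
      change x ^ 2 ^ 0 = 1
      rw [this, one_pow]
    obtain ⟨s', θ', e1, e2, e3, e4, -⟩ := Mult.mult hpn S.cls.rgd S.gen S.coord S.θ S.hθ
      (f := MonoidHom.id ↥(E (oddForm m F))) Function.surjective_id hkid hk2 hE
    have h3 : g ∈ S.T := center_le_T S hg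
    have h4 : g ∈ θ'.range := by
      rw [e4]; exact h3
    obtain ⟨t, ht⟩ := h4
    have h5 : S.θ t = g := by rw [← e3, ← ht]; rfl
    obtain ⟨c, hc⟩ := scalar_of_center hG hg
    subst hS
    have h6 : theta (nodeO m) hA t = g := h5
    have hc0 : c ≠ 0 := by
      rintro rfl
      have h1 := hc (Pi.single (Sum.inl ()) 1)
      rw [zero_smul] at h1
      have h7 := (LinearEquiv.map_eq_zero_iff _).mp h1
      have h8 := congrFun h7 (Sum.inl ())
      simp at h8
    have h9 := eps_eq_one hA hm0 (t := t) (ε := Units.mk0 c hc0) (fun v => by rw [h6]; exact hc v)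
    have h10 : c = 1 := congrArg Units.val h9
    apply Subtype.ext
    refine LinearEquiv.ext fun v => ?_
    rw [hc v, h10, one_smul]
    rfl
  -- the map to `E Q`
  have hinj : Function.Injective (toPOmega hG) := by
    rw [injective_iff_map_eq_one]
    intro g hg
    exact hcenE g (center_of_toPOmega hG hg)
  let i : ↥(E (oddForm m F)) ≃* Cfsg.POmega F ⇑(oddForm m F) :=
    MulEquiv.ofBijective (toPOmega hG) ⟨hinj, toPOmega_surjective hG⟩
  obtain ⟨f, hf⟩ : ∃ f : N →* ↥(E (oddForm m F)), f = i.symm.toMonoidHom.comp (e.toMonoidHom.comp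
    (QuotientGroup.mk' _)) := ⟨_, rfl⟩
  have fs : Function.Surjective f := by
    rw [hf]
    exact i.symm.surjective.comp (e.surjective.comp (QuotientGroup.mk'_surjective _))
  have fk : f.ker = Subgroup.center N := by
    rw [hf]
    ext x
    rw [MonoidHom.mem_ker]
    change i.symm (e (QuotientGroup.mk x)) = 1 ↔ _
    rw [map_eq_one_iff i.symm i.symm.injective, map_eq_one_iff e e.injective, QuotientGroup.eq_one_iff]
  obtain ⟨s', θ', e1, e2, e3, e4⟩ := Mult.exists_of_ker hpn S.cls.rgd S.gen S.coord S.θ S.hθ fs fk.le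
    (by rw [fk]; exact hZ) hN
  subst hS
  have key : ∀ z ∈ Subgroup.center N, z = 1 ∨ ∃ j : Fin m, (j : ℕ) + 1 = m ∧
      z = θ' (Pi.mulSingle j (-1) : ∀ i, ((nodeO (F := F) m i).K)ˣ) := by
    intro z hz
    obtain ⟨t, rfl, ht⟩ := e4 z (MonoidHom.mem_ker.1 (fk.ge hz))
    rcases theta_eq_one hA hm0 (t := t) ht with rfl | ⟨j, hj, rfl⟩
    · left
      exact map_one θ'
    · exact Or.inr ⟨j, hj, rfl⟩
  intro z hz
  rcases key z hz with h | ⟨j, hj, h⟩
  · exact Or.inl h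
  · right
    rcases key c hc with h' | ⟨k, hk, h'⟩
    · exact absurd h' hc1
    · have : j = k := Fin.ext (by omega)
      subst this
      rw [h, h']

end Cfsg.Agent.UGT.U2.Rec.CenterOm
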